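import Groth.Prelude.Def_DRing2
import Groth.Agent.DR39.Hom
import Groth.Agent.DR39.DBasic
import Mathlib.LinearAlgebra.Trace
import Mathlib.Algebra.Ring.NegOnePow
import Mathlib.Algebra.BigOperators.Group.Finset.Basic
import Mathlib.Data.Int.Interval

/-! Alternating traces of chain endomorphisms of bounded complexes of finite free modules. -/

set_option autoImplicit false
universe u

open CategoryTheory CategoryTheory.Limits
attribute [local instance] HasDerivedCategory.standard

namespace Groth.Agent.Trace19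

variable {Λ : Type u} [CommRing Λ]

/-- Alternating sum of traces over `[a, b]`. -/
noncomputable def altTr (a b : ℤ) (P : DRing.Cx Λ) (f : P ⟶ P) : Λ :=
  ∑ i ∈ Finset.Icc a b, ((i.negOnePow : ℤˣ) : ℤ) • LinearMap.trace Λ (P.X i) (f.f i).hom

lemma sum_telescope {M : Type*} [AddCommGroup M] (a b : ℤ) (T : ℤ → M) (ha : T a = 0)
    (hb : T (b + 1) = 0) :
    ∑ i ∈ Finset.Icc a b, ((i.negOnePow : ℤˣ) : ℤ) • (T (i + 1) + T i) = 0 := by
  simp only [smul_add, Finset.sum_add_distrib]
  have h1 : ∑ i ∈ Finset.Icc a b, ((i.negOnePow : ℤˣ) : ℤ) • T (i + 1) =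
      ∑ i ∈ Finset.Icc (a + 1) (b + 1), -(((i.negOnePow : ℤˣ) : ℤ) • T i) := by
    rw [← Finset.map_add_right_Icc a b 1, Finset.sum_map]
    refine Finset.sum_congr rfl fun i _ => ?_
    simp [Int.negOnePow_succ]
  have h2 : ∑ i ∈ Finset.Icc (a + 1) (b + 1), -(((i.negOnePow : ℤˣ) : ℤ) • T i) =
      ∑ i ∈ Finset.Icc a (b + 1), -(((i.negOnePow : ℤˣ) : ℤ) • T i) := by
    refine Finset.sum_subset (Finset.Icc_subset_Icc (by omega) le_rfl) fun i hi hni => ?_
    have : i = a := by simp only [Finset.mem_Icc] at hi hni; omega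
    subst this
    simp [ha]
  have h3 : ∑ i ∈ Finset.Icc a b, ((i.negOnePow : ℤˣ) : ℤ) • T i =
      ∑ i ∈ Finset.Icc a (b + 1), ((i.negOnePow : ℤˣ) : ℤ) • T i := by
    refine Finset.sum_subset (Finset.Icc_subset_Icc le_rfl (by omega)) fun i hi hni => ?_
    have : i = b + 1 := by simp only [Finset.mem_Icc] at hi hni; omega
    subst this
    simp [hb]
  rw [h1, h2, h3, Finset.sum_neg_distrib, neg_add_cancel]

lemma hom_eq_zero_of_isZero {M N : ModuleCat.{u} Λ} (h : IsZero M) (f : M ⟶ N) : f.hom = 0 := by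
  rw [h.eq_of_src f 0]; rfl

lemma hom_eq_zero_of_isZero' {M N : ModuleCat.{u} Λ} (h : IsZero N) (f : M ⟶ N) : f.hom = 0 := by
  rw [h.eq_of_tgt f 0]; rfl

lemma altTr_homotopy (a b : ℤ) (P : DRing.Cx Λ) (hP : DRing.VanishesOutside P a b)
    (hPf : DRing.TermwiseFiniteFree P) (f g : P ⟶ P) (h : Homotopy f g) :
    altTr a b P f = altTr a b P g := by
  have : ∀ i, Module.Finite Λ (P.X i) := fun i => (hPf i).1
  have : ∀ i, Module.Free Λ (P.X i) := fun i => (hPf i).2
  let T : ℤ → Λ := fun j => LinearMap.trace Λ (P.X j)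
    ((P.d (j - 1) j).hom ∘ₗ (h.hom j (j - 1)).hom)
  have key : ∀ i, LinearMap.trace Λ (P.X i) (f.f i).hom =
      LinearMap.trace Λ (P.X i) (g.f i).hom + (T (i + 1) + T i) := by
    intro i
    have hc := h.comm i
    rw [dNext_eq _ (show (ComplexShape.up ℤ).Rel i (i + 1) from rfl),
      prevD_eq _ (show (ComplexShape.up ℤ).Rel (i - 1) i by simp)] at hc
    have hc' := congrArg ModuleCat.Hom.hom hc
    simp only [ModuleCat.hom_add, ModuleCat.hom_comp] at hc'
    rw [hc', map_add, map_add, LinearMap.trace_comp_comm' (P.d i (i + 1)).hom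
      (h.hom (i + 1) i).hom]
    have : T (i + 1) = LinearMap.trace Λ (P.X (i + 1))
        ((P.d i (i + 1)).hom ∘ₗ (h.hom (i + 1) i).hom) := by
      have aux : ∀ j, j = i → LinearMap.trace Λ (P.X (i + 1))
          ((P.d j (i + 1)).hom ∘ₗ (h.hom (i + 1) j).hom) = LinearMap.trace Λ (P.X (i + 1))
          ((P.d i (i + 1)).hom ∘ₗ (h.hom (i + 1) i).hom) := by rintro j rfl; rfl
      exact aux _ (by omega)
    rw [this]
    simp only [T]
    abel
  unfold altTr
  rw [Finset.sum_congr rfl fun i _ => by rw [key i, smul_add], Finset.sum_add_distrib,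
    sum_telescope a b T, add_zero]
  · simp only [T]
    rw [hom_eq_zero_of_isZero (hP (a - 1) (by omega)) (P.d (a - 1) a)]
    simp
  · simp only [T]
    rw [hom_eq_zero_of_isZero (hP (b + 1) (by omega)) (h.hom (b + 1) (b + 1 - 1))]
    simp

lemma altTr_comp_comm (a b : ℤ) (P Q : DRing.Cx Λ)
    (hPf : DRing.TermwiseFiniteFree P) (hQf : DRing.TermwiseFiniteFree Q)
    (x : P ⟶ Q) (y : Q ⟶ P) : altTr a b P (x ≫ y) = altTr a b Q (y ≫ x) := by
  refine Finset.sum_congr rfl fun i _ => ?_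
  have := (hPf i).1; have := (hPf i).2; have := (hQf i).1; have := (hQf i).2
  simp only [HomologicalComplex.comp_f, ModuleCat.hom_comp]
  rw [LinearMap.trace_comp_comm' (x.f i).hom (y.f i).hom]

theorem altTr_eq_of_iso (a b : ℤ) (P Q : DRing.Cx Λ)
    (hP : DRing.VanishesOutside P a b) (hQ : DRing.VanishesOutside Q a b)
    (hPf : DRing.TermwiseFiniteFree P) (hQf : DRing.TermwiseFiniteFree Q)
    (f : P ⟶ P) (g : Q ⟶ Q) (α : DRing.toD P ≅ DRing.toD Q)
    (h : α.hom ≫ DerivedCategory.Q.map g = DerivedCategory.Q.map f ≫ α.hom) :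
    altTr a b P f = altTr a b Q g := by
  have : P.IsKProjective := DR39.isKProjective_of_bddAbove P b (fun i hi => hP i (Or.inr hi))
    fun i => by have := (hPf i).2; exact Module.Projective.of_free
  have : Q.IsKProjective := DR39.isKProjective_of_bddAbove Q b (fun i hi => hQ i (Or.inr hi))
    fun i => by have := (hQf i).2; exact Module.Projective.of_free
  obtain ⟨x, hx⟩ := DR39.Q_map_surjective P Q α.hom
  obtain ⟨y, hy⟩ := DR39.Q_map_surjective Q P α.inv
  have e1 : DerivedCategory.Q.map f = DerivedCategory.Q.map (x ≫ g ≫ y) := by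
    rw [Functor.map_comp, Functor.map_comp, hx, hy, ← Category.assoc, h, Category.assoc,
      Iso.hom_inv_id]
    exact (Category.comp_id _).symm
  have e2 : DerivedCategory.Q.map ((g ≫ y) ≫ x) = DerivedCategory.Q.map g := by
    rw [Functor.map_comp, Functor.map_comp, hx, hy, Category.assoc, Iso.inv_hom_id]
    exact Category.comp_id _
  obtain ⟨H1⟩ := (DR39.Q_map_eq_iff f (x ≫ g ≫ y)).1 e1
  obtain ⟨H2⟩ := (DR39.Q_map_eq_iff ((g ≫ y) ≫ x) g).1 e2
  rw [altTr_homotopy a b P hP hPf _ _ H1, altTr_comp_comm a b P Q hPf hQf x (g ≫ y),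
    altTr_homotopy a b Q hQ hQf _ _ H2]

end Groth.Agent.Trace19
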